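import Groth.Agent.MilnorKLambda.Mult
import Mathlib.RingTheory.FiniteLength
import Mathlib.Data.ENat.BigOperators
import Mathlib.RingTheory.KrullDimension.Regular
import Mathlib.RingTheory.Ideal.MinimalPrime.Noetherian

/-!
The inequality `length (M/tM) ≥ ∑ length M_p` in dimension one, with its equality case.
-/

universe u

open Pointwise Groth.MilnorKLambda.Per

namespace Groth.AssAlgAux

variable {B : Type u} [CommRing B]

theorem sum_eq_sum_mul_iff {ι : Type*} [Fintype ι] (o l : ι → ℕ∞) (ho : ∀ i, l i ≠ 0 → 1 ≤ o i) (k : ℕ∞)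
    (hL : k + ∑ i, o i * l i ≠ ⊤) :
    (∑ i, l i ≤ k + ∑ i, o i * l i) ∧
      (∑ i, l i = k + ∑ i, o i * l i ↔ k = 0 ∧ ∀ i, l i ≠ 0 → o i = 1) := by
  have hle : ∀ i, l i ≤ o i * l i := fun i => by
    by_cases h : l i = 0
    · rw [h, mul_zero]
    · exact le_mul_of_one_le_left (zero_le) (ho i h)
  have h1 : ∑ i, l i ≤ ∑ i, o i * l i := Finset.sum_le_sum fun i _ => hle i
  refine ⟨h1.trans le_add_self, fun h => ?_, fun ⟨hk, ho1⟩ => ?_⟩
  · obtain ⟨hk, hs⟩ := WithTop.add_ne_top.mp hL
    have hfin : ∀ i, o i * l i ≠ ⊤ := fun i hi => hs (WithTop.sum_eq_top.mpr ⟨i, Finset.mem_univ _, hi⟩)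
    have hlfin : ∀ i, l i ≠ ⊤ := fun i hi => hfin i (top_le_iff.mp (hi ▸ hle i))
    lift k to ℕ using hk
    choose b hb using fun i => ENat.ne_top_iff_exists.mp (hfin i)
    choose c hc using fun i => ENat.ne_top_iff_exists.mp (hlfin i)
    rw [Finset.sum_congr rfl (fun i _ => (hc i).symm),
      Finset.sum_congr (f := fun i => o i * l i) rfl (fun i _ => (hb i).symm)] at h
    rw [← Nat.cast_sum, ← Nat.cast_sum, ← Nat.cast_add, Nat.cast_inj] at h
    have hcb : ∀ i ∈ Finset.univ, c i ≤ b i := fun i _ => by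
      have := hle i; rw [← hb, ← hc] at this; exact_mod_cast this
    have h2 := Finset.sum_le_sum hcb
    refine ⟨by exact_mod_cast (show k = 0 by omega), fun i hi => ?_⟩
    have h3 : c i = b i := (Finset.sum_eq_sum_iff_of_le hcb).mp (by omega) i (Finset.mem_univ _)
    have h4 : o i * l i = l i := by rw [← hb, ← hc, h3]
    have hotop : o i ≠ ⊤ := fun ht => hlfin i (by rw [← h4, ht, ENat.top_mul hi])
    obtain ⟨a, ha⟩ := ENat.ne_top_iff_exists.mp hotop
    rw [← ha, ← hc, ← Nat.cast_mul, Nat.cast_inj] at h4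
    rw [← hc] at hi
    have hc0 : c i ≠ 0 := fun h0 => hi (by rw [h0]; rfl)
    rw [← ha, Nat.mul_eq_right hc0 |>.mp h4]
    rfl
  · rw [hk, zero_add]
    refine Finset.sum_congr rfl fun i _ => ?_
    by_cases hl : l i = 0
    · rw [hl, mul_zero]
    · rw [ho1 i hl, one_mul]

theorem supportDim_le_zero_of_isFiniteLength {A : Type u} [CommRing A] [IsNoetherianRing A] {M : Type u} [AddCommGroup M] [Module A M] [Module.Finite A M]
    (h : IsFiniteLength A M) : Module.supportDim A M ≤ 0 := by
  obtain ⟨n, f, hf⟩ := Module.Finite.exists_fin (R := A) (M := M)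
  let g : (A ⧸ Module.annihilator A M) →ₗ[A] (Fin n → M) :=
    (Module.annihilator A M).liftQ (LinearMap.pi fun i => LinearMap.toSpanSingleton A M (f i))
      (fun a ha => by ext i; exact Module.mem_annihilator.mp ha (f i))
  have hg : Function.Injective g := by
    rw [injective_iff_map_eq_zero]
    intro a ha
    obtain ⟨a, rfl⟩ := Submodule.mkQ_surjective _ a
    refine (Submodule.Quotient.mk_eq_zero _).mpr (Module.mem_annihilator.mpr fun m => ?_)
    have hm : m ∈ Submodule.span A (Set.range f) := hf.ge trivial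
    induction hm using Submodule.span_induction with
    | mem y hy => obtain ⟨i, rfl⟩ := hy; exact congrFun ha i
    | zero => exact smul_zero a
    | add y z _ _ hy hz => rw [smul_add, hy, hz, add_zero]
    | smul c y _ hy => rw [smul_comm, hy, smul_zero]
  obtain ⟨h1, h2⟩ := isFiniteLength_iff_isNoetherian_isArtinian.mp h
  have : IsArtinian A (A ⧸ Module.annihilator A M) := isArtinian_of_injective g hg
  have : IsArtinianRing (A ⧸ Module.annihilator A M) := isArtinian_of_tower A this
  rw [Module.supportDim_eq_ringKrullDim_quotient_annihilator]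
  exact Order.krullDim_nonpos_iff_forall_isMax.mpr fun p q hpq =>
    (Ideal.IsMaximal.eq_of_le inferInstance q.isPrime.ne_top (show p.asIdeal ≤ q.asIdeal from hpq)).ge

variable [IsLocalRing B]

theorem one_le_ord_quot {t : B} (ht : t ∈ IsLocalRing.maximalIdeal B) (p : Ideal B) [p.IsPrime] :
    1 ≤ Ring.ord (B ⧸ p) (Ideal.Quotient.mk p t) := by
  rw [ENat.one_le_iff_ne_zero, Ring.ord, Ne, Module.length_eq_zero_iff, not_subsingleton_iff_nontrivial]
  refine Ideal.Quotient.nontrivial_iff.mpr fun h => ?_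
  have h1 := congrArg (Ideal.comap (Ideal.Quotient.mk p)) h
  rw [← Set.image_singleton, ← Ideal.map_span, Ideal.comap_map_of_surjective' _ Ideal.Quotient.mk_surjective,
    Ideal.mk_ker, Ideal.comap_top] at h1
  exact (IsLocalRing.maximalIdeal.isMaximal B).ne_top (top_le_iff.mp (h1 ▸
    sup_le ((Ideal.span_singleton_le_iff_mem _).mpr ht) (IsLocalRing.le_maximalIdeal Ideal.IsPrime.ne_top')))

theorem ord_quot_eq_one_iff {t : B} (p : Ideal B) [p.IsPrime] :
    Ring.ord (B ⧸ p) (Ideal.Quotient.mk p t) = 1 ↔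
      Ideal.map (Ideal.Quotient.mk p) (IsLocalRing.maximalIdeal B) = Ideal.span {Ideal.Quotient.mk p t} := by
  have : IsLocalRing (B ⧸ p) :=
    .of_surjective' (Ideal.Quotient.mk p) Ideal.Quotient.mk_surjective
  have hm : Ideal.map (Ideal.Quotient.mk p) (IsLocalRing.maximalIdeal B) = IsLocalRing.maximalIdeal (B ⧸ p) := by
    refine (Ideal.map_eq_top_or_isMaximal_of_surjective _ Ideal.Quotient.mk_surjective
      (IsLocalRing.maximalIdeal.isMaximal B)).elim (fun h => ?_) IsLocalRing.eq_maximalIdeal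
    have h1 := congrArg (Ideal.comap (Ideal.Quotient.mk p)) h
    rw [Ideal.comap_map_of_surjective' _ Ideal.Quotient.mk_surjective, Ideal.mk_ker, Ideal.comap_top] at h1
    exact absurd (top_le_iff.mp (h1 ▸ sup_le le_rfl (IsLocalRing.le_maximalIdeal Ideal.IsPrime.ne_top')))
      (IsLocalRing.maximalIdeal.isMaximal B).ne_top
  rw [Ring.ord, Module.length_eq_one_iff, isSimpleModule_iff_isCoatom, ← Ideal.isMaximal_def, hm]
  exact ⟨fun h => (IsLocalRing.eq_maximalIdeal h).symm, fun h => h ▸ IsLocalRing.maximalIdeal.isMaximal _⟩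

variable [IsNoetherianRing B]

/-- `∑ length M_p ≤ length (M/tM)` over the non-maximal primes of the support, with equality case. -/
theorem length_ineq {t : B} (ht : t ∈ IsLocalRing.maximalIdeal B)
    (M : Type u) [AddCommGroup M] [Module B M] [Module.Finite B M]
    (hfin : Module.length B (M ⧸ (Ideal.span {t} • (⊤ : Submodule B M))) ≠ ⊤)
    {ι : Type u} [Finite ι] (g : ι → PrimeSpectrum B) (hg : Function.Injective g)
    (hm : ∀ i, (g i).asIdeal ≠ IsLocalRing.maximalIdeal B)
    (hsur : ∀ p ∈ Module.support B M, p.asIdeal ≠ IsLocalRing.maximalIdeal B → ∃ i, g i = p) :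
    (∑ᶠ i, lq (g i).asIdeal M) ≤ Module.length B (M ⧸ (Ideal.span {t} • (⊤ : Submodule B M))) ∧
    ((∑ᶠ i, lq (g i).asIdeal M) = Module.length B (M ⧸ (Ideal.span {t} • (⊤ : Submodule B M))) ↔
      IsSMulRegular M t ∧ ∀ i, g i ∈ Module.support B M →
        Ideal.map (Ideal.Quotient.mk (g i).asIdeal) (IsLocalRing.maximalIdeal B) =
          Ideal.span {Ideal.Quotient.mk (g i).asIdeal t}) := by
  classical
  have : Fintype ι := Fintype.ofFinite ι
  have e0 : Module.length B (M ⧸ (Ideal.span {t} • (⊤ : Submodule B M))) =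
      Module.length B (M ⧸ t • (⊤ : Submodule B M)) :=
    (Submodule.quotEquivOfEq _ _ (Submodule.ideal_span_singleton_smul t ⊤)).length_eq
  rw [e0] at hfin ⊢
  have h0 : Module.supportDim B (M ⧸ t • (⊤ : Submodule B M)) ≤ 0 :=
    supportDim_le_zero_of_isFiniteLength (Module.length_ne_top_iff.mp hfin)
  have h1 : Module.supportDim B M ≤ 1 := by
    refine (Module.supportDim_le_supportDim_quotSMulTop_succ ht).trans ?_
    exact (add_le_add h0 le_rfl).trans_eq (zero_add 1)
  have key := length_quot_smul_eq M t h1 h0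
  set w : PrimeSpectrum B → ℕ∞ := fun p =>
    Ring.ord (B ⧸ p.asIdeal) (Ideal.Quotient.mk p.asIdeal t) * lq p.asIdeal M
  have hsum : (∑ᶠ (p : PrimeSpectrum B) (_ : p ∈ Module.support B M ∧
      p.asIdeal ≠ IsLocalRing.maximalIdeal B), w p) = ∑ i, w (g i) := by
    rw [← finsum_eq_sum_of_fintype, ← finsum_mem_range hg]
    refine finsum_mem_inter_support_eq w _ _ (Set.ext fun p => ?_)
    simp only [Set.mem_inter_iff, Function.mem_support, Set.mem_range]
    constructor
    · rintro ⟨⟨hp, hpm⟩, hw⟩; exact ⟨hsur p hp hpm, hw⟩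
    · rintro ⟨⟨i, rfl⟩, hw⟩
      exact ⟨⟨mem_support_of_lq_ne_zero _ fun h => hw (by simp only [w, h, mul_zero]), hm i⟩, hw⟩
  rw [hsum] at key
  rw [key] at hfin ⊢
  obtain ⟨hle, heq⟩ := sum_eq_sum_mul_iff (fun i => Ring.ord (B ⧸ (g i).asIdeal) (Ideal.Quotient.mk _ t))
    (fun i => lq (g i).asIdeal M) (fun i _ => one_le_ord_quot ht _) _ hfin
  rw [finsum_eq_sum_of_fintype]
  refine ⟨hle, heq.trans (and_congr ?_ (forall_congr' fun i => ?_))⟩
  · rw [Module.length_eq_zero_iff, Submodule.subsingleton_iff_eq_bot, LinearMap.ker_eq_bot]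
    rfl
  · rw [← ord_quot_eq_one_iff]
    exact imp_congr_left ⟨mem_support_of_lq_ne_zero _, lq_pos_of_mem _⟩

theorem length_ineq_minimalPrimes_annihilator {t : B} (ht : t ∈ IsLocalRing.maximalIdeal B)
    (M : Type u) [AddCommGroup M] [Module B M] [Module.Finite B M]
    (hdim : 0 < Module.supportDim B M)
    (hfin : Module.length B (M ⧸ (Ideal.span {t} • (⊤ : Submodule B M))) ≠ ⊤) :
    (∑ᶠ p : (Module.annihilator B M).minimalPrimes,
        haveI : p.1.IsPrime := p.2.1.1
        Module.length (Localization.AtPrime p.1) (LocalizedModule p.1.primeCompl M)) ≤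
      Module.length B (M ⧸ (Ideal.span {t} • (⊤ : Submodule B M))) ∧
    ((∑ᶠ p : (Module.annihilator B M).minimalPrimes,
        haveI : p.1.IsPrime := p.2.1.1
        Module.length (Localization.AtPrime p.1) (LocalizedModule p.1.primeCompl M)) =
      Module.length B (M ⧸ (Ideal.span {t} • (⊤ : Submodule B M))) ↔
    IsSMulRegular M t ∧
      ∀ p : (Module.annihilator B M).minimalPrimes,
        Ideal.map (Ideal.Quotient.mk p.1) (IsLocalRing.maximalIdeal B) =
          Ideal.span {Ideal.Quotient.mk p.1 t}) := by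
  have : Finite (Module.annihilator B M).minimalPrimes :=
    (Ideal.finite_minimalPrimes_of_isNoetherianRing B _).to_subtype
  let g : (Module.annihilator B M).minimalPrimes → PrimeSpectrum B := fun p => ⟨p.1, p.2.1.1⟩
  have hmem : ∀ p, g p ∈ Module.support B M := fun p => by
    rw [Module.support_eq_zeroLocus]; exact p.2.1.2
  have h0 : Module.supportDim B M ≤ 1 := by
    refine (Module.supportDim_le_supportDim_quotSMulTop_succ ht).trans ?_
    have h0' : Module.supportDim B (QuotSMulTop t M) ≤ 0 :=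
      supportDim_le_zero_of_isFiniteLength (Module.length_ne_top_iff.mp
        ((Submodule.quotEquivOfEq _ _ (Submodule.ideal_span_singleton_smul t (⊤ : Submodule B M))).length_eq ▸ hfin))
    exact (add_le_add h0' le_rfl).trans_eq (zero_add 1)
  have H := length_ineq ht M hfin g (fun a b h => Subtype.ext (congrArg PrimeSpectrum.asIdeal h))
    (fun p hp => hdim.not_ge (Order.krullDim_nonpos_iff_forall_isMax.mpr fun a b _ => by
      have h1 : ∀ r ∈ Module.support B M, IsLocalRing.maximalIdeal B ≤ r.asIdeal := fun r hr => by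
        rw [Module.support_eq_zeroLocus] at hr
        exact hp ▸ p.2.2 ⟨r.2, hr⟩ ((IsLocalRing.le_maximalIdeal r.2.ne_top).trans_eq hp.symm)
      exact (IsLocalRing.le_maximalIdeal b.1.2.ne_top).trans (h1 _ a.2)))
    (fun p hp hpm => ⟨⟨p.asIdeal, by
      refine ⟨⟨p.2, by rw [Module.support_eq_zeroLocus] at hp; exact hp⟩, fun q hq hqp => ?_⟩
      exact (minimal_of_supportDim_le_one h0 hp hpm).2 (y := ⟨q, hq.1⟩)
        (by rw [Module.support_eq_zeroLocus]; exact hq.2) hqp⟩, rfl⟩)
  exact ⟨H.1, H.2.trans (and_congr_right' (forall_congr' fun p => ⟨fun h => h (hmem p), fun h _ => h⟩))⟩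

theorem length_quot_ne_top_of_isArtinianRing {t : B} (hart : IsArtinianRing (B ⧸ Ideal.span {t}))
    (M : Type u) [AddCommGroup M] [Module B M] [Module.Finite B M] :
    Module.length B (M ⧸ (Ideal.span {t} • (⊤ : Submodule B M))) ≠ ⊤ := by
  refine length_ne_top_of_forall_isMaximal fun q hq hle => ?_
  have htq : Ideal.span {t} ≤ q := by
    refine le_trans ?_ hle
    refine (Ideal.span_singleton_le_iff_mem _).mpr (Module.mem_annihilator.mpr fun z => ?_)
    obtain ⟨z, rfl⟩ := Submodule.Quotient.mk_surjective _ z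
    rw [← Submodule.Quotient.mk_smul, Submodule.Quotient.mk_eq_zero]
    exact Submodule.smul_mem_smul (Ideal.mem_span_singleton_self t) trivial
  have hker : RingHom.ker (Ideal.Quotient.mk (Ideal.span {t})) ≤ q := by rwa [Ideal.mk_ker]
  have := Ideal.map_isPrime_of_surjective Ideal.Quotient.mk_surjective hker
  have h1 := Ideal.comap_isMaximal_of_surjective (Ideal.Quotient.mk (Ideal.span {t}))
    Ideal.Quotient.mk_surjective (K := q.map (Ideal.Quotient.mk (Ideal.span {t})))
  rwa [Ideal.comap_map_of_surjective' _ Ideal.Quotient.mk_surjective, sup_eq_left.mpr hker] at h1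

theorem length_ineq_minimalPrimes (hdim : 0 < ringKrullDim B) (t : B)
    (ht : t ∈ IsLocalRing.maximalIdeal B) (hart : IsArtinianRing (B ⧸ Ideal.span {t}))
    (M : Type u) [AddCommGroup M] [Module B M] [Module.Finite B M] :
    (∑ᶠ p : minimalPrimes B,
        haveI : p.1.IsPrime := p.2.1.1
        Module.length (Localization.AtPrime p.1) (LocalizedModule p.1.primeCompl M)) ≤
      Module.length B (M ⧸ (Ideal.span {t} • (⊤ : Submodule B M))) ∧
    ((∑ᶠ p : minimalPrimes B,
        haveI : p.1.IsPrime := p.2.1.1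
        Module.length (Localization.AtPrime p.1) (LocalizedModule p.1.primeCompl M)) =
      Module.length B (M ⧸ (Ideal.span {t} • (⊤ : Submodule B M))) ↔
    IsSMulRegular M t ∧
      ∀ p : minimalPrimes B,
        (haveI : p.1.IsPrime := p.2.1.1
         Nontrivial (LocalizedModule p.1.primeCompl M)) →
        Ideal.map (Ideal.Quotient.mk p.1) (IsLocalRing.maximalIdeal B) =
          Ideal.span {Ideal.Quotient.mk p.1 t}) := by
  have : Finite (minimalPrimes B) :=
    (Ideal.finite_minimalPrimes_of_isNoetherianRing B _).to_subtype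
  let g : minimalPrimes B → PrimeSpectrum B := fun p => ⟨p.1, p.2.1.1⟩
  have h1 : Module.supportDim B B ≤ 1 := by
    refine (Module.supportDim_le_supportDim_quotSMulTop_succ ht).trans ?_
    have h0 : Module.supportDim B (QuotSMulTop t B) ≤ 0 :=
      supportDim_le_zero_of_isFiniteLength (Module.length_ne_top_iff.mp
        ((Submodule.quotEquivOfEq _ _ (Submodule.ideal_span_singleton_smul t (⊤ : Submodule B B))).length_eq ▸
          length_quot_ne_top_of_isArtinianRing hart B))
    exact (add_le_add h0 le_rfl).trans_eq (zero_add 1)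
  have hsupp : ∀ p : PrimeSpectrum B, p ∈ Module.support B B := fun p => by
    rw [Module.support_of_algebra]
    exact PrimeSpectrum.mem_zeroLocus _ _ |>.mpr fun a ha => by
      rw [SetLike.mem_coe, RingHom.mem_ker, Algebra.algebraMap_self, RingHom.id_apply] at ha
      exact ha ▸ zero_mem _
  obtain ⟨hle, heq⟩ := length_ineq ht M (length_quot_ne_top_of_isArtinianRing hart M) g
    (fun a b h => Subtype.ext (congrArg PrimeSpectrum.asIdeal h))
    (fun p hp => hdim.not_ge (Order.krullDim_nonpos_iff_forall_isMax.mpr fun a b _ => by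
      have h2 : ∀ r : PrimeSpectrum B, IsLocalRing.maximalIdeal B ≤ r.asIdeal := fun r =>
        hp ▸ p.2.2 ⟨r.2, bot_le⟩ ((IsLocalRing.le_maximalIdeal r.2.ne_top).trans_eq hp.symm)
      exact (IsLocalRing.le_maximalIdeal b.2.ne_top).trans (h2 a)))
    (fun p _ hpm => ⟨⟨p.asIdeal, ⟨⟨p.2, bot_le⟩, fun q hq hqp =>
      (minimal_of_supportDim_le_one h1 (hsupp p) hpm).2 (y := ⟨q, hq.1⟩) (hsupp _) hqp⟩⟩, rfl⟩)
  exact ⟨hle, heq.trans (and_congr_right' (forall_congr' fun p =>
    imp_congr_left Module.mem_support_iff))⟩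

end Groth.AssAlgAux
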