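import Mathlib.RingTheory.Support
import Mathlib.RingTheory.SimpleModule.Basic
import Mathlib.RingTheory.Finiteness.Ideal
import Mathlib.RingTheory.Localization.AtPrime.Basic
import Mathlib.Algebra.Module.LocalizedModule.AtPrime
import Mathlib.Algebra.Module.FinitePresentation
import Mathlib.RingTheory.Nilpotent.Lemmas
import Mathlib.RingTheory.Ideal.MinimalPrime.Basic

/-!
Nonvanishing of `Hom(M, N)` for `M` of finite presentation and `Supp N ⊆ Supp M`.
-/

universe u v

namespace Groth.AssAlgAux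

theorem exists_ne_zero_to_quot_of_radical {R : Type*} [CommRing R] [IsLocalRing R] (J : Ideal R)
    (hJ : J ≠ ⊤) (hrad : IsLocalRing.maximalIdeal R ≤ J.radical)
    (P : Type*) [AddCommGroup P] [Module R P] [Module.FinitePresentation R P] [Nontrivial P] :
    ∃ φ : P →ₗ[R] R ⧸ J, φ ≠ 0 := by
  classical
  obtain ⟨n, g, hg⟩ := Module.Finite.exists_fin' R P
  obtain ⟨s, hs⟩ := Module.FinitePresentation.fg_ker g hg
  obtain ⟨Q, hQ, -⟩ := (eq_top_or_exists_le_coatom (⊥ : Submodule R P)).resolve_left bot_ne_top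
  have : IsSimpleModule R (P ⧸ Q) := isSimpleModule_iff_isCoatom.mpr hQ
  obtain ⟨I₀, hI₀, ⟨e⟩⟩ := isSimpleModule_iff_quot_maximal.mp this
  obtain rfl := IsLocalRing.eq_maximalIdeal hI₀
  set ψ : P →ₗ[R] R ⧸ IsLocalRing.maximalIdeal R := e.toLinearMap.comp Q.mkQ with hψ
  have hψs : Function.Surjective ψ := e.surjective.comp Q.mkQ_surjective
  choose w hw using fun i => Submodule.mkQ_surjective (IsLocalRing.maximalIdeal R)
    (ψ (g (Pi.single i 1)))
  let W : (Fin n → R) →ₗ[R] R := (Pi.basisFun R (Fin n)).constr R w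
  have hW : (Submodule.mkQ (IsLocalRing.maximalIdeal R)).comp W = ψ.comp g := by
    refine (Pi.basisFun R (Fin n)).ext fun i => ?_
    rw [LinearMap.comp_apply, Module.Basis.constr_basis, Pi.basisFun_apply]
    exact hw i
  let I : Ideal R := Ideal.span (s.image W : Set R)
  have hI : I ≤ IsLocalRing.maximalIdeal R := by
    refine Ideal.span_le.mpr fun a ha => ?_
    obtain ⟨v, hv, rfl⟩ := Finset.mem_image.mp ha
    refine (Submodule.Quotient.mk_eq_zero _).mp ?_
    have h1 := LinearMap.congr_fun hW v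
    rw [LinearMap.comp_apply, LinearMap.comp_apply,
      LinearMap.mem_ker.mp (hs ▸ Submodule.subset_span hv : v ∈ LinearMap.ker g), map_zero] at h1
    exact h1
  have hfg : I.FG := ⟨s.image W, rfl⟩
  have hex := Ideal.exists_pow_le_of_le_radical_of_fg (hI.trans hrad) hfg
  have hk0 : Nat.find hex ≠ 0 := fun h0 => hJ <| top_le_iff.mp <| by
    have := Nat.find_spec hex
    rwa [h0, pow_zero, Ideal.one_eq_top] at this
  obtain ⟨k, hk⟩ := Nat.exists_eq_succ_of_ne_zero hk0
  obtain ⟨c, hc, hcJ⟩ := SetLike.not_le_iff_exists.mp (Nat.find_min hex (hk ▸ k.lt_succ_self))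
  let Φ : (Fin n → R) →ₗ[R] R ⧸ J := (Submodule.mkQ J).comp (c • W)
  have hΦ : LinearMap.ker g ≤ LinearMap.ker Φ := by
    rw [← hs, Submodule.span_le]
    intro v hv
    refine (Submodule.Quotient.mk_eq_zero _).mpr ?_
    refine ((congrArg (I ^ ·) hk).symm.trans_le (Nat.find_spec hex)) ?_
    rw [pow_succ]
    exact Ideal.mul_mem_mul hc (Ideal.subset_span (Finset.mem_image_of_mem W hv))
  refine ⟨(Submodule.liftQ _ Φ hΦ).comp (g.quotKerEquivOfSurjective hg).symm.toLinearMap,
    fun h => hcJ ?_⟩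
  have hzero : ∀ v, c * W v ∈ J := fun v => by
    have h1 : Submodule.liftQ _ Φ hΦ (Submodule.Quotient.mk v) = 0 := by
      obtain ⟨p, hp⟩ : ∃ p, (g.quotKerEquivOfSurjective hg).symm p = Submodule.Quotient.mk v :=
        ⟨_, LinearEquiv.symm_apply_apply _ _⟩
      rw [← hp]
      exact LinearMap.congr_fun h p
    exact (Submodule.Quotient.mk_eq_zero _).mp h1
  obtain ⟨v, hv⟩ := hψs (Submodule.mkQ _ 1)
  obtain ⟨v, rfl⟩ := hg v
  have hu : IsUnit (W v) := by
    by_contra hu
    have h1 : Submodule.Quotient.mk (W v) = (Submodule.Quotient.mk 1 : R ⧸ IsLocalRing.maximalIdeal R) :=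
      (LinearMap.congr_fun hW v).trans hv
    rw [(Submodule.Quotient.mk_eq_zero _).mpr ((IsLocalRing.mem_maximalIdeal _).mpr hu), eq_comm,
      Submodule.Quotient.mk_eq_zero] at h1
    exact (IsLocalRing.maximalIdeal.isMaximal R).ne_top ((Ideal.eq_top_iff_one _).mpr h1)
  exact (Ideal.mul_unit_mem_iff_mem J hu).mp (hzero v)

theorem nontrivial_linearMap_of_support_subset
    (A : Type u) [CommRing A] (M : Type v) [AddCommGroup M] [Module A M]
    [Module.FinitePresentation A M] (N : Type v) [AddCommGroup N] [Module A N] [Nontrivial N]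
    (h : Module.support A N ⊆ Module.support A M) : Nontrivial (M →ₗ[A] N) := by
  obtain ⟨x, hx⟩ := exists_ne (0 : N)
  set K := LinearMap.ker (LinearMap.toSpanSingleton A N x) with hK
  have hKx : ∀ a, a ∈ K ↔ a • x = 0 := fun a => Iff.rfl
  have hKtop : K ≠ ⊤ := fun ht => hx (by rw [← one_smul A x]; exact (hKx 1).mp (ht ▸ trivial))
  obtain ⟨m, hm, hKm⟩ := Ideal.exists_le_maximal K hKtop
  obtain ⟨q, hq, -⟩ := Ideal.exists_minimalPrimes_le hKm
  have := hq.1.1
  have hqN : (⟨q, inferInstance⟩ : PrimeSpectrum A) ∈ Module.support A N :=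
    Module.mem_support_iff'.mpr ⟨x, fun r hr h0 => hr (hq.1.2 ((hKx r).mpr h0))⟩
  have : Nontrivial (LocalizedModule q.primeCompl M) := h hqN
  let R := Localization.AtPrime q
  let Nq := LocalizedModule q.primeCompl N
  let μ := LocalizedModule.mkLinearMap q.primeCompl N
  let ν := LocalizedModule.mkLinearMap q.primeCompl M
  let J : Ideal R := LinearMap.ker (LinearMap.toSpanSingleton R Nq (μ x))
  have hJ : J ≠ ⊤ := fun ht => by
    have h1 : (1 : R) • μ x = 0 := (ht ▸ trivial : (1 : R) ∈ J)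
    rw [one_smul] at h1
    obtain ⟨c, hc⟩ := (IsLocalizedModule.eq_zero_iff q.primeCompl μ).mp h1
    exact c.2 (hq.1.2 ((hKx c).mpr hc))
  have hrad : IsLocalRing.maximalIdeal R ≤ J.radical := by
    rw [Ideal.radical_eq_sInf]
    refine le_sInf fun Q ⟨hJQ, hQ⟩ => ?_
    have hQm := IsLocalRing.le_maximalIdeal hQ.ne_top
    have h1 : K ≤ Q.comap (algebraMap A R) := fun a ha => hJQ <| by
      change algebraMap A R a • μ x = 0
      rw [algebraMap_smul, ← map_smul, (hKx a).mp ha, map_zero]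
    have h2 : Q.comap (algebraMap A R) ≤ q := fun a ha =>
      (IsLocalization.AtPrime.to_map_mem_maximal_iff R q a).mp (hQm ha)
    have h3 : q ≤ Q.comap (algebraMap A R) := hq.2 ⟨hQ.comap _, h1⟩ h2
    rw [← Localization.AtPrime.map_eq_maximalIdeal]
    exact Ideal.map_le_iff_le_comap.mpr h3
  obtain ⟨φ, hφ⟩ := exists_ne_zero_to_quot_of_radical J hJ hrad (LocalizedModule q.primeCompl M)
  let ι : (R ⧸ J) →ₗ[R] Nq := Submodule.liftQ J (LinearMap.toSpanSingleton R Nq (μ x)) le_rfl
  have hι : Function.Injective ι := LinearMap.ker_eq_bot.mp (Submodule.ker_liftQ_eq_bot _ _ _ le_rfl)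
  let Φ : M →ₗ[A] Nq := ((ι.comp φ).restrictScalars A).comp ν
  obtain ⟨g, s, hs⟩ := Module.FinitePresentation.exists_lift_of_isLocalizedModule q.primeCompl μ Φ
  refine ⟨⟨g, 0, fun hg => hφ ?_⟩⟩
  refine LinearMap.ext fun y => hι ?_
  rw [LinearMap.zero_apply, map_zero]
  obtain ⟨⟨y, t⟩, rfl⟩ := IsLocalizedModule.mk'_surjective q.primeCompl ν y
  have h0 : ι (φ (ν y)) = 0 := by
    have h1 : s • Φ y = 0 := by
      have := LinearMap.congr_fun hs y
      rw [hg] at this
      simpa using this.symm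
    exact IsLocalizedModule.smul_injective μ s (h1.trans (smul_zero s).symm)
  dsimp only [Function.uncurry]
  apply IsLocalizedModule.smul_injective μ t
  change t • ((ι.comp φ).restrictScalars A) (IsLocalizedModule.mk' ν y t) = t • 0
  rw [smul_zero, Submonoid.smul_def, ← map_smul, ← Submonoid.smul_def, IsLocalizedModule.mk'_cancel']
  exact h0

end Groth.AssAlgAux
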